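import Cfsg.Agent.H606.PQR.Pieces_m3
import Cfsg.Agent.H547.SelfCent.Conway
import Cfsg.Agent.H547.SelfCent.McLHS
import Cfsg.Agent.H800.Sp.NotAbA
import Cfsg.Agent.H729.PairMathieu
import Cfsg.Agent.H393.Iso.All
import Cfsg.Agent.H603.SporElim
import Cfsg.Agent.H800.Sp.Mathieu_mg
import Cfsg.Agent.H45.Thin.Leech
import Cfsg.Agent.H175.Eight.J1
import Cfsg.Agent.H413.JOneLocal
import Cfsg.Agent.KFacts.RgdFld.Two_m3
import Cfsg.Agent.KFacts.FiTTh.BasInv
import Cfsg.Agent.KFacts.FiTF.FixZ_m3
import Cfsg.Agent.SporadicA.MathieuRecog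
import Cfsg.Agent.S1696
import Cfsg.Agent.H912.CrossList_m3
import Cfsg.Agent.S0295
import Cfsg.Agent.S1686
import Cfsg.Agent.FastGrp
import Cfsg.Agent.Prune
set_option linter.all false
prune_inst 0x7f00000000000000000000000000000000000000000000000000000000000000000000000000000000000000000000000000000000000000000000000000000000000000000000000000000000000000003fffffffffffffffffffffffffffbeffbdffffffff
open scoped Cfsg.Agent.FastGrp

-- part: H844/Fpf/RowsA
section
/-!
# Sporadic rows of S4228: M11, M12, M24, J2, McL, Co2, Co3, He (helper844)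
-/

set_option autoImplicit false

namespace Cfsg.Agent.H844.Fpf

open Subgroup Cfsg Cfsg.Agent Cfsg.Agent.H80.Fpf Cfsg.Agent.H393.Iso

universe u

variable {K : Type u} [Group K] [Finite K]

instance fact3 : Fact (Nat.Prime 3) := ⟨Nat.prime_three⟩
instance fact5 : Fact (Nat.Prime 5) := ⟨Nat.prime_five⟩
instance fact7 : Fact (Nat.Prime 7) := ⟨by norm_num⟩

theorem row_j2 (h : Spor.IsoJ2 K) : Row K :=
  row_by (NotCT.Orders.j2 h) 5 7 [2, 3, 5, 7] [3] (by decide +kernel) 7 (by decide +kernel) (by decide) (by decide)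
    (by
      intro r hr
      simp only [List.mem_singleton] at hr
      subst hr
      exact not_may_of_notAb (by norm_num) (by norm_num) (H800.Sp.NotAbRows.j2_3 h))

theorem row_mcl (h : Spor.IsoMcL K) : Row K :=
  row_by (NotCT.Orders.mcl h) 7 11 [2, 3, 5, 7, 11] [3, 5] (by decide +kernel) 7 (by decide +kernel) (by decide)
    (by decide)
    (by
      intro r hr
      simp only [List.mem_cons, List.not_mem_nil, or_false] at hr
      rcases hr with rfl | rfl
      · exact not_may_of_notAb (by norm_num) (by norm_num) (H800.Sp.NotAbRows.mcl_3 h)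
      · exact not_may_of_notAb (by norm_num) (by norm_num) (H800.Sp.NotAbRows.mcl_5 h))

theorem row_he (h : Spor.IsoHe K) : Row K :=
  row_by (NotCT.Orders.he h) 5 17 [2, 3, 5, 7, 17] [3, 7] (by decide +kernel) 10 (by decide +kernel) (by decide)
    (by decide)
    (by
      intro r hr
      simp only [List.mem_cons, List.not_mem_nil, or_false] at hr
      rcases hr with rfl | rfl
      · exact not_may_of_notAb (by norm_num) (by norm_num) (H800.Sp.NotAbRows.he_3 h)
      · exact not_may_of_notAb (by norm_num) (by norm_num) (H800.Sp.NotAbRows.he_7 h))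

section
variable [IsSimpleGroup K]

theorem co3_11 (h : Spor.IsoCo3 K) : ¬ May 11 K :=
  not_may_of_self (s := 23) (by norm_num) (by norm_num) (by norm_num) (by norm_num) (by norm_num)
    (NotCT.Orders.co3 h) (by norm_num) (by norm_num) (by norm_num)
    (fun _ hx => H547.SelfCent.Conway.co3 h (na_co3 h) hx) (by decide +kernel)

theorem co2_11 (h : Spor.IsoCo2 K) : ¬ May 11 K :=
  not_may_of_self (s := 23) (by norm_num) (by norm_num) (by norm_num) (by norm_num) (by norm_num)
    (NotCT.Orders.co2 h) (by norm_num) (by norm_num) (by norm_num)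
    (fun _ hx => H547.SelfCent.Conway.co2 h (na_co2 h) hx) (by decide +kernel)

theorem co1_11 (h : Spor.IsoCo1 K) : ¬ May 11 K :=
  not_may_of_self (s := 23) (by norm_num) (by norm_num) (by norm_num) (by norm_num) (by norm_num)
    (NotCT.Orders.co1 h) (by norm_num) (by norm_num) (by norm_num)
    (fun _ hx => H547.SelfCent.Conway.co1 h (na_co1 h) hx) (by decide +kernel)

theorem row_co3 (h : Spor.IsoCo3 K) : Row K :=
  row_by (NotCT.Orders.co3 h) 7 23 [2, 3, 5, 7, 11, 23] [3, 5, 11] (by decide +kernel) 10 (by decide +kernel)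
    (by decide) (by decide)
    (by
      intro r hr
      simp only [List.mem_cons, List.not_mem_nil, or_false] at hr
      rcases hr with rfl | rfl | rfl
      · exact not_may_of_notAb (by norm_num) (by norm_num) (H800.Sp.NotAbRows.co3_3 h)
      · exact not_may_of_notAb (by norm_num) (by norm_num) (H800.Sp.NotAbRows.co3_5 h)
      · exact co3_11 h)

theorem row_co2 (h : Spor.IsoCo2 K) : Row K :=
  row_by (NotCT.Orders.co2 h) 7 23 [2, 3, 5, 7, 11, 23] [3, 5, 11] (by decide +kernel) 18 (by decide +kernel)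
    (by decide) (by decide)
    (by
      intro r hr
      simp only [List.mem_cons, List.not_mem_nil, or_false] at hr
      rcases hr with rfl | rfl | rfl
      · exact not_may_of_notAb (by norm_num) (by norm_num) (H800.Sp.NotAbRows.co2_3 h)
      · exact not_may_of_notAb (by norm_num) (by norm_num) (H800.Sp.NotAbRows.co2_5 h)
      · exact co2_11 h)

end

end Cfsg.Agent.H844.Fpf
end

-- part: H844/Fpf/RowsM
section
/-!
# Sporadic rows of S4228: the Mathieu groups (helper844)
-/

set_option autoImplicit false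

namespace Cfsg.Agent.H844.Fpf

open Subgroup Cfsg Cfsg.Agent Cfsg.Agent.H80.Fpf Cfsg.Agent.H393.Iso
open Cfsg.Agent.SporadicA.GolayBase Cfsg.Agent.SporadicA.GolayPerm
open Cfsg.Agent.SporadicStructure.M24El Cfsg.Agent.H729.Trans Cfsg.Agent.H729.MData Cfsg.Agent.H729.Count
open Cfsg.Agent.H729.M24Deg Cfsg.Agent.H729.M22Deg

universe u

/-- the order of the centralizer from self-centralizing Sylow subgroups of order `p` -/
theorem card_cent_of_sylow {S : Type u} [Group S] [Finite S] {p : ℕ} (hp : p.Prime) (hsq : ¬ p * p ∣ Nat.card S)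
    (h : ∀ P : Sylow p S, centralizer (P : Set S) = (P : Subgroup S)) {x : S} (hx : orderOf x = p) :
    Nat.card (centralizer ({x} : Set S)) = p := by
  have : Fact p.Prime := ⟨hp⟩
  have hcz : Nat.card (zpowers x) = p := by rw [Nat.card_zpowers, hx]
  have hidx : ¬ p ∣ (zpowers x).index := by
    intro h
    apply hsq
    rw [← Subgroup.card_mul_index (zpowers x), hcz]
    exact Nat.mul_dvd_mul_left p h
  have hP : IsPGroup p (zpowers x) := IsPGroup.of_card (n := 1) (by rw [hcz, pow_one])
  have h1 := h (hP.toSylow hidx)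
  have h2 : ((hP.toSylow hidx : Sylow p S) : Subgroup S) = zpowers x := rfl
  have h3 : centralizer ({x} : Set S) = centralizer ((hP.toSylow hidx : Sylow p S) : Set S) := by
    show _ = centralizer ((zpowers x : Subgroup S) : Set S)
    exact (Cfsg.Agent.H729.PairBase.centralizer_zpowers_eq x).symm
  rw [h3, h1, h2, hcz]

/-! ### two commuting elements of order 3 in `M22` -/

/-- the second element -/
def B3 : ℕ := 969257820457882433260191157202693536

theorem okB3 : ok B3 = true := by decide +kernel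

/-- the elements of `M22` -/
noncomputable def a22 : Spor.M22 := ⟨el H800.Sp.Mathieu.A, H800.Sp.Mathieu.el_fix H800.Sp.Mathieu.okA (by decide +kernel)⟩
noncomputable def b22 : Spor.M22 := ⟨el B3, H800.Sp.Mathieu.el_fix okB3 (by decide +kernel)⟩

theorem inc_a22 : inc a22 = el H800.Sp.Mathieu.A := rfl
theorem inc_b22 : inc b22 = el B3 := rfl

theorem order_a22 : orderOf a22 = 3 := by
  rw [← orderOf_inc, inc_a22]
  exact orderOf_el (by norm_num) H800.Sp.Mathieu.okA (by decide +kernel) 2 (by norm_num) (by decide +kernel)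

theorem order_b22 : orderOf b22 = 3 := by
  rw [← orderOf_inc, inc_b22]
  exact orderOf_el (by norm_num) okB3 (by decide +kernel) 2 (by norm_num) (by decide +kernel)

theorem comm22 : a22 * b22 = b22 * a22 := by
  apply inc_injective
  rw [map_mul, map_mul, inc_a22, inc_b22, ← el_pcomp H800.Sp.Mathieu.okA okB3, ← el_pcomp okB3 H800.Sp.Mathieu.okA]
  congr 1

theorem not_mem22 : b22 ∉ zpowers a22 := by
  refine not_mem_zpowers_of (by norm_num) order_a22 fun k hk h => ?_
  have h1 := congrArg inc h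
  rw [map_pow, inc_a22, inc_b22, ← el_ppow H800.Sp.Mathieu.okA] at h1
  have hok : ok (ppow H800.Sp.Mathieu.A k) = true := by interval_cases k <;> decide +kernel
  have h2 := H865.ListGroup.papp_of_el_eq okB3 hok h1 1 (by norm_num)
  interval_cases k <;> revert h2 <;> decide +kernel

theorem m22_3 {K : Type u} [Group K] [Finite K] (f : Spor.M22 →* K) (hf : Function.Injective f) : ¬ May 3 K :=
  not_may_of_pair (by norm_num) (by norm_num) f hf comm22 order_a22 order_b22 not_mem22

/-! ### the rows -/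

section
variable {K : Type u} [Group K] [Finite K] [IsSimpleGroup K]

/-- the centralizer of an element of order 11 in a subgroup of `M24` -/
theorem card_cent_inc {H : Type u} [Group H] [Finite H] (f : H →* M24) (hf : Function.Injective f) {x : H}
    (hx : orderOf x = 11) : Nat.card (centralizer ({x} : Set H)) = 11 := by
  have hfx : orderOf (f x) = 11 := by rw [orderOf_injective f hf, hx]
  have h1 := H729.PairMathieu.card_cent_eleven hfx
  have h2 := H547.SelfCent.dvd_cent hx
  have h3 : Nat.card (centralizer ({x} : Set H)) ∣ Nat.card (centralizer ({f x} : Set M24)) := by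
    have h4 : (centralizer ({x} : Set H)).map f ≤ centralizer ({f x} : Set M24) := by
      rintro _ ⟨y, hy, rfl⟩
      rw [mem_centralizer_singleton_iff, ← map_mul, ← map_mul, mem_centralizer_singleton_iff.1 hy]
    have h5 := Subgroup.card_dvd_of_le h4
    rwa [Nat.card_congr ((centralizer ({x} : Set H)).equivMapOfInjective f hf).toEquiv.symm] at h5
  rw [h1] at h3
  exact Nat.dvd_antisymm h3 h2

theorem m11_5 (h : Spor.IsoM11 K) : ¬ May 5 K :=
  not_may_of_self (s := 11) (by norm_num) (by norm_num) (by norm_num) (by norm_num) (by norm_num)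
    (NotCT.Orders.m11 h) (by norm_num) (by norm_num) (by norm_num)
    (fun _ hx => SporadicA.M11Sylow.card_centralizer_eleven ⟨inferInstance, NotCT.Orders.m11 h⟩ hx) (by decide +kernel)

theorem m12_5 (h : Spor.IsoM12 K) : ¬ May 5 K :=
  not_may_of_self (s := 11) (by norm_num) (by norm_num) (by norm_num) (by norm_num) (by norm_num)
    (NotCT.Orders.m12 h) (by norm_num) (by norm_num) (by norm_num)
    (fun _ hx => card_cent_of_sylow (by norm_num) (by rw [NotCT.Orders.m12 h]; norm_num)
      (fun P => MTwelve.SylowEleven.centralizer_sylow11 (NotCT.Orders.m12 h) P) hx) (by decide +kernel)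

theorem m22_5 (h : Spor.IsoM22 K) : ¬ May 5 K := by
  have : Fact (Nat.Prime 11) := ⟨by norm_num⟩
  exact not_may_of_self (s := 11) (by norm_num) (by norm_num) (by norm_num) (by norm_num) (by norm_num)
    (NotCT.Orders.m22 h) (by norm_num) (by norm_num) (by norm_num)
    (fun _ hx => card_cent_of_sylow (by norm_num) (by rw [NotCT.Orders.m22 h]; norm_num)
      (fun P => (M22.Sylow11.sylow_eleven (NotCT.Orders.m22 h) P).1) hx) (by decide +kernel)

theorem m23_11 (h : Spor.IsoM23 K) : ¬ May 11 K :=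
  not_may_of_self (s := 23) (by norm_num) (by norm_num) (by norm_num) (by norm_num) (by norm_num)
    (NotCT.Orders.m23 h) (by norm_num) (by norm_num) (by norm_num)
    (fun _ hx => card_cent_of_sylow (by norm_num) (by rw [NotCT.Orders.m23 h]; norm_num)
      (fun P => M23.Sylow23.centralizer_eq (NotCT.Orders.m23 h) P) hx) (by decide +kernel)

theorem m23_5 (h : Spor.IsoM23 K) : ¬ May 5 K := by
  obtain ⟨e⟩ := h
  exact not_may_of_self (s := 11) (by norm_num) (by norm_num) (by norm_num) (by norm_num) (by norm_num)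
    (NotCT.Orders.m23 ⟨e⟩) (by norm_num) (by norm_num) (by norm_num)
    (fun _ hx => card_cent_inc (H729.PairMathieu.inc23.comp e.toMonoidHom)
      (H729.PairMathieu.inc23_injective.comp e.injective) hx) (by decide +kernel)

theorem m24_11 (h : Spor.IsoM24 K) : ¬ May 11 K :=
  not_may_of_self (s := 23) (by norm_num) (by norm_num) (by norm_num) (by norm_num) (by norm_num)
    (NotCT.Orders.m24 h) (by norm_num) (by norm_num) (by norm_num)
    (fun _ hx => card_cent_of_sylow (by norm_num) (by rw [NotCT.Orders.m24 h]; norm_num)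
      (fun P => SporadicA.M24.Sylow23.centralizer_eq (NotCT.Orders.m24 h) P) hx) (by decide +kernel)

theorem m24_5 (h : Spor.IsoM24 K) : ¬ May 5 K := by
  obtain ⟨e⟩ := h
  exact not_may_of_self (s := 11) (by norm_num) (by norm_num) (by norm_num) (by norm_num) (by norm_num)
    (NotCT.Orders.m24 ⟨e⟩) (by norm_num) (by norm_num) (by norm_num)
    (fun _ hx => card_cent_inc e.toMonoidHom e.injective hx) (by decide +kernel)

theorem row_m11 (h : Spor.IsoM11 K) : Row K :=
  row_by (NotCT.Orders.m11 h) 3 11 [2, 3, 5, 11] [5] (by decide +kernel) 4 (by decide +kernel) (by decide) (by decide)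
    (by
      intro r hr
      simp only [List.mem_singleton] at hr
      subst hr
      exact m11_5 h)

theorem row_m12 (h : Spor.IsoM12 K) : Row K :=
  row_by (NotCT.Orders.m12 h) 3 11 [2, 3, 5, 11] [5] (by decide +kernel) 6 (by decide +kernel) (by decide) (by decide)
    (by
      intro r hr
      simp only [List.mem_singleton] at hr
      subst hr
      exact m12_5 h)

theorem row_m22 (h : Spor.IsoM22 K) : Row K :=
  row_by (NotCT.Orders.m22 h) 7 11 [2, 3, 5, 7, 11] [3, 5] (by decide +kernel) 7 (by decide +kernel) (by decide)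
    (by decide)
    (by
      intro r hr
      simp only [List.mem_cons, List.not_mem_nil, or_false] at hr
      rcases hr with rfl | rfl
      · obtain ⟨e⟩ := h
        exact m22_3 e.symm.toMonoidHom e.symm.injective
      · exact m22_5 h)

/-- the inclusion -/
def inc22_23 : Spor.M22 →* Spor.M23 := Subgroup.inclusion inf_le_left

theorem inc22_23_injective : Function.Injective inc22_23 := Subgroup.inclusion_injective _

theorem row_m23 (h : Spor.IsoM23 K) : Row K :=
  row_by (NotCT.Orders.m23 h) 7 23 [2, 3, 5, 7, 11, 23] [3, 5, 11] (by decide +kernel) 7 (by decide +kernel)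
    (by decide) (by decide)
    (by
      intro r hr
      simp only [List.mem_cons, List.not_mem_nil, or_false] at hr
      rcases hr with rfl | rfl | rfl
      · obtain ⟨e⟩ := h
        exact m22_3 (e.symm.toMonoidHom.comp inc22_23) (e.symm.injective.comp inc22_23_injective)
      · exact m23_5 h
      · exact m23_11 h)

theorem row_m24 (h : Spor.IsoM24 K) : Row K :=
  row_by (NotCT.Orders.m24 h) 7 23 [2, 3, 5, 7, 11, 23] [3, 5, 11] (by decide +kernel) 10 (by decide +kernel)
    (by decide) (by decide)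
    (by
      intro r hr
      simp only [List.mem_cons, List.not_mem_nil, or_false] at hr
      rcases hr with rfl | rfl | rfl
      · exact not_may_of_notAb (by norm_num) (by norm_num) (H800.Sp.NotAbRows.m24_3 h)
      · exact m24_5 h
      · exact m24_11 h)

end

end Cfsg.Agent.H844.Fpf
end

-- part: H844/Fpf/RowsB
section
/-!
# Sporadic rows of S4228: HS, J1 (helper844)
-/

set_option autoImplicit false

namespace Cfsg.Agent.H844.Fpf

open Subgroup Cfsg Cfsg.Agent Cfsg.Agent.H80.Fpf Cfsg.Agent.H393.Iso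

universe u

section gens

variable {S : Type u} [Group S] {l : ℕ} {ι : Type*} (e : ι → S)

theorem gens_comm (hc : ∀ i j, e i * e j = e j * e i) : ∀ a ∈ _root_.Subgroup.closure (Set.range e), ∀ b ∈ closure (Set.range e),
    a * b = b * a := by
  have hmul : IsMulCommutative (closure (Set.range e)) := Subgroup.isMulCommutative_closure (by
    rintro _ ⟨i, rfl⟩ _ ⟨j, rfl⟩
    exact hc i j)
  exact fun a ha b hb => congrArg (fun w : closure (Set.range e) => (w : S)) (hmul.is_comm.comm ⟨a, ha⟩ ⟨b, hb⟩)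

theorem gens_pow (hc : ∀ i j, e i * e j = e j * e i) (hp : ∀ i, e i ^ l = 1) :
    ∀ y ∈ _root_.Subgroup.closure (Set.range e), y ^ l = 1 := by
  intro y hy
  induction hy using Subgroup.closure_induction with
  | mem y hy => obtain ⟨i, rfl⟩ := hy; exact hp i
  | one => exact one_pow l
  | mul y z hy hz h1 h2 =>
    have hyz : Commute y z := gens_comm e hc y hy z hz
    rw [hyz.mul_pow, h1, h2, one_mul]
  | inv y _ h1 => rw [inv_pow, h1, inv_one]

theorem gens_isPGroup (hc : ∀ i j, e i * e j = e j * e i) (hp : ∀ i, e i ^ l = 1) :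
    IsPGroup l (closure (Set.range e)) :=
  fun y => ⟨1, Subtype.ext (by simpa only [_root_.pow_one, _root_.SubmonoidClass.coe_pow, _root_.OneMemClass.coe_one] using gens_pow e hc hp y y.2)⟩

theorem gens_conj {x : S} (hxe : ∀ i, x * e i * x⁻¹ ∈ _root_.Subgroup.closure (Set.range e)) :
    ∀ k ∈ closure (Set.range e), x * k * x⁻¹ ∈ closure (Set.range e) := by
  intro k hk
  induction hk using Subgroup.closure_induction with
  | mem y hy => obtain ⟨i, rfl⟩ := hy; exact hxe i
  | one => rw [mul_one, mul_inv_cancel]; exact one_mem _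
  | mul y z _ _ h1 h2 =>
    have : x * (y * z) * x⁻¹ = (x * y * x⁻¹) * (x * z * x⁻¹) := by group
    rw [this]; exact mul_mem h1 h2
  | inv y _ h1 =>
    have : x * y⁻¹ * x⁻¹ = (x * y * x⁻¹)⁻¹ := by group
    rw [this]; exact inv_mem h1

/-- **Criterion**: an element of order `r` normalising an elementary abelian `l`-group given by generators -/
theorem not_may_of_gens [Finite S] [IsSimpleGroup S] {r : ℕ} (hr : r.Prime) (hr2 : r ≠ 2)
    (hl : l.Prime) (hlr : l ≠ r) (hgood : Good l r) (hc : ∀ i j, e i * e j = e j * e i)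
    (hp : ∀ i, e i ^ l = 1) {x : S} (hx : orderOf x = r) (hxe : ∀ i, x * e i * x⁻¹ ∈ _root_.Subgroup.closure (Set.range e))
    {i : ι} (hne : x * e i ≠ e i * x) : ¬ May r S :=
  not_may_of_act hr hr2 hl hlr hgood (gens_isPGroup e hc hp) hx (gens_conj e hxe) (subset_closure ⟨i, rfl⟩) hne

/-- **Criterion**: the same for small multiplier -/
theorem not_may_of_gens_abelian {S : Type u} [Group S] {l : ℕ} {ι : Type*} (e : ι → S)
    [Finite S] [IsSimpleGroup S] {r m : ℕ} (hr : r.Prime) (hr2 : r ≠ 2)
    (hl : l.Prime) (hm : MultDvd S m) (hlm : ¬ l ∣ m) (hc : ∀ i j, e i * e j = e j * e i)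
    (hp : ∀ i, e i ^ l = 1) {x : S} (hx : orderOf x = r) (hxe : ∀ i, x * e i * x⁻¹ ∈ _root_.Subgroup.closure (Set.range e))
    {i : ι} (hne : x * e i ≠ e i * x) : ¬ May r S :=
  not_may_of_act_abelian hr hr2 hl hm hlm (gens_isPGroup e hc hp) (gens_comm e hc) hx (gens_conj e hxe)
    (subset_closure ⟨i, rfl⟩) hne

end gens

/-! ### HS -/

section
variable {K : Type u} [Group K] [Finite K] [IsSimpleGroup K]

omit [IsSimpleGroup K] in
theorem row_hs (h : Spor.IsoHS K) : Row K :=
  row_by (NotCT.Orders.hs h) 7 11 [2, 3, 5, 7, 11] [3, 5] (by decide +kernel) 9 (by decide +kernel) (by decide)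
    (by decide)
    (by
      intro r hr
      simp only [List.mem_cons, List.not_mem_nil, or_false] at hr
      rcases hr with rfl | rfl
      · obtain ⟨e⟩ := h
        exact m22_3 (e.symm.toMonoidHom.comp H45.Thin.Leech.embH)
          (e.symm.injective.comp H45.Thin.Leech.embH_injective)
      · exact not_may_of_notAb (by norm_num) (by norm_num) (H800.Sp.NotAbRows.hs_5 h))

end

/-! ### J1 -/

section J1

open Cfsg.Agent.SporadicB.J1.Main Cfsg.Agent.SporadicB.J1.Mat Cfsg.Agent.SporadicB.J1.Data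
open Cfsg.Agent.SporadicB.J1 Cfsg.Agent.Omega.Lie.PairJOne
open Cfsg.Spor (J1)

theorem nw_pow : ev nw ^ 7 = 1 := ((rep_ev _).pow 7).eq Rep.one (by decide +kernel)
theorem nw_ne : ev nw ≠ 1 := (rep_ev _).ne Rep.one (by decide +kernel)

theorem j1_7 : ¬ May 7 J1 := by
  have : IsSimpleGroup J1 := isJ1.1
  have hc : ∀ i, ev nw * e i * (ev nw)⁻¹ = e (pm i) := fun i => by rw [n_conj, mul_inv_cancel_right]
  refine not_may_of_gens (l := 2) (r := 7) e (by norm_num) (by norm_num) Nat.prime_two (by norm_num)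
    (good_two_of_dvd (q := 3) Nat.prime_three (by norm_num) (by norm_num)) ?_ (fun i => by rw [sq]; exact e_sq i)
    (x := ev nw) (orderOf_eq_prime nw_pow nw_ne) (fun i => by rw [hc]; exact subset_closure ⟨_, rfl⟩) (i := (1 : Fin 8)) ?_
  · intro i j
    refine ((rep_e i).mul (rep_e j)).eq ((rep_e j).mul (rep_e i)) ?_
    revert i j
    decide +kernel
  · exact ((rep_ev nw).mul (rep_e 1)).ne ((rep_e 1).mul (rep_ev nw)) (by decide +kernel)

theorem j1_cent {x : J1} {s : ℕ} (hs : s = 11 ∨ s = 19) (hx : orderOf x = s) :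
    Nat.card (centralizer ({x} : Set J1)) = s := by
  have : IsSimpleGroup J1 := isJ1.1
  rw [H417.JOneDeg.card_cent H413.JOneLocal.isLocal H413.JOneLocal.card_J1, hx]
  rw [hx]
  unfold H413.JOneSpec.Big
  itauto

theorem j1_3 : ¬ May 3 J1 := by
  have : IsSimpleGroup J1 := isJ1.1
  exact not_may_of_self (s := 19) (N := 175560) (by norm_num) (by norm_num) (by norm_num) (by norm_num) (by norm_num)
    H413.JOneLocal.card_J1 (by norm_num) (by norm_num) (by norm_num)
    (fun _ hx => j1_cent (Or.inr rfl) hx) (by decide +kernel)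

theorem j1_5 : ¬ May 5 J1 := by
  have : IsSimpleGroup J1 := isJ1.1
  exact not_may_of_self (s := 11) (N := 175560) (by norm_num) (by norm_num) (by norm_num) (by norm_num) (by norm_num)
    H413.JOneLocal.card_J1 (by norm_num) (by norm_num) (by norm_num)
    (fun _ hx => j1_cent (Or.inl rfl) hx) (by decide +kernel)

theorem row_j1 {K : Type u} [Group K] [Finite K] [IsSimpleGroup K] (h : Spor.IsoJ1 K) : Row K := by
  obtain ⟨e⟩ := h
  refine Row.of_equiv e.symm ?_
  refine row_by (N := 175560) H413.JOneLocal.card_J1 11 19 [2, 3, 5, 7, 11, 19] [3, 5, 7] (by decide +kernel) 3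
    (by decide +kernel) (by decide) (by decide) ?_
  intro r hr
  simp only [List.mem_cons, List.not_mem_nil, or_false] at hr
  rcases hr with rfl | rfl | rfl
  · exact j1_3
  · exact j1_5
  · exact j1_7

end J1

end Cfsg.Agent.H844.Fpf
end

-- part: H844/Fpf/RowsFi
section
/-!
# Sporadic rows of S4228: the Fischer groups (helper844)

* `not_may_of_refl` : elements of order `r` with the property `Refl`;
* `not_may_of_perm` : an element permuting generators of an elementary abelian group;
* `Fi22` : 5 (`Refl`), 7 and 11 (`2^10 : M22`); `Fi23` : 7, 11, 23 (`2^11 : M23`), all primes excluded in `Fi22`;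
* `Fi24'` : all primes excluded in `Fi23`.
-/

set_option autoImplicit false

namespace Cfsg.Agent.H844.Fpf

open Subgroup hiding pi
open Cfsg Cfsg.Agent Cfsg.Agent.H80.Fpf

universe u

/-- **Criterion**: an element of order `r` commuting with `u` of order `r`, inverted by an element of `C(u)` -/
theorem not_may_of_refl {S : Type u} [Group S] [Finite S] {r : ℕ} (hr : r.Prime) (hr2 : r ≠ 2) {w : S}
    (hw : orderOf w = r) (h : Cfsg.Agent.H800.Sp.Refl r w) : ¬ May r S := by
  obtain ⟨x, c, h1, h2, h3, h4⟩ := h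
  refine not_may_of_comm hr hr2 h2 hw h1 fun hx => ?_
  obtain ⟨k, rfl⟩ := mem_zpowers_iff.1 hx
  have h5 : c * w ^ k * c⁻¹ = w ^ k := by
    have h6 : Commute c w := h3.symm
    rw [(h6.zpow_right k).eq, mul_inv_cancel_right]
  rw [h5] at h4
  have h6 : (w ^ k) ^ 2 = 1 := by rw [sq]; nth_rw 1 [h4]; exact inv_mul_cancel _
  have h7 := orderOf_dvd_of_pow_eq_one h6
  rw [h1] at h7
  exact hr2 ((Nat.prime_dvd_prime_iff_eq hr Nat.prime_two).1 h7)

theorem conj_pow_perm {S : Type u} [Group S] {ι : Type*} {e : ι → S} {n : S} {m : Equiv.Perm ι}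
    (hn : ∀ p, n * e p * n⁻¹ = e (m p)) (k : ℕ) (p : ι) : n ^ k * e p * (n ^ k)⁻¹ = e ((m ^ k) p) := by
  induction k generalizing p with
  | zero => simp
  | succ k ih =>
    have : n ^ (k + 1) * e p * (n ^ (k + 1))⁻¹ = n ^ k * (n * e p * n⁻¹) * (n ^ k)⁻¹ := by
      rw [pow_succ]; group
    rw [this, hn, ih, pow_succ, Equiv.Perm.mul_apply]

/-- **Criterion**: an element permuting the generators of an elementary abelian `l`-group with order `r` -/
theorem not_may_of_perm {S : Type u} [Group S] [Finite S] [IsSimpleGroup S] {r l : ℕ} (hr : r.Prime) (hr2 : r ≠ 2)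
    (hl : l.Prime) (hlr : l ≠ r) (hgood : Good l r) {ι : Type*} (e : ι → S) (hc : ∀ i j, e i * e j = e j * e i)
    (hp : ∀ i, e i ^ l = 1) {n : S} {m : Equiv.Perm ι} (hm : orderOf m = r) (hn : ∀ p, n * e p * n⁻¹ = e (m p))
    (hrr : ¬ r * r ∣ Nat.card S) (hf : ∀ k, (∀ p, e ((m ^ k) p) = e p) → m ^ k = 1) : ¬ May r S := by
  have hN : r ∣ orderOf n := by
    rw [← hm]
    refine orderOf_dvd_of_pow_eq_one (hf _ fun p => ?_)
    rw [← conj_pow_perm hn, pow_orderOf_eq_one]
    group
  obtain ⟨k, hk⟩ := hN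
  have hrk : ¬ r ∣ k := by
    rintro ⟨j, rfl⟩
    exact hrr ((Dvd.intro j (by rw [hk]; ring)).trans (_root_.orderOf_dvd_natCard n))
  have hk0 : k ≠ 0 := by
    rintro rfl
    rw [mul_zero] at hk
    exact (orderOf_pos n).ne' hk
  have hx : orderOf (n ^ k) = r := by
    rw [orderOf_pow_of_dvd hk0 (Dvd.intro_left r hk.symm), hk, Nat.mul_div_cancel _ (Nat.pos_of_ne_zero hk0)]
  have h1 : m ^ k ≠ 1 := fun h => hrk (by rw [← hm]; exact orderOf_dvd_of_pow_eq_one h)
  obtain ⟨p, hp1⟩ : ∃ p, e ((m ^ k) p) ≠ e p := by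
    by_contra hcon
    push Not at hcon
    exact h1 (hf k hcon)
  refine not_may_of_gens e hr hr2 hl hlr hgood hc hp hx (fun i => ?_) (i := p) (fun h => hp1 ?_)
  · rw [conj_pow_perm hn]; exact subset_closure ⟨_, rfl⟩
  · rw [← conj_pow_perm hn, h, mul_inv_cancel_right]

/-! ### Fi23 -/

section Fi23

open Cfsg.Agent.KFacts.FiTTh.BasDef Cfsg.Agent.KFacts.FiTTh.BasFi
open Cfsg.Agent.Fischer.Fi23Simple (card_Fi23)
open Cfsg.Spor (Fi23 Fi22 M22 M23)

theorem finite_fi23 : Finite Fi23 := Nat.finite_of_card_ne_zero (by rw [card_Fi23]; norm_num)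

theorem fi23_perm {r : ℕ} (hr : r.Prime) (hr2 : r ≠ 2) (hgood : Good 2 r) (hd : r ∣ 10200960)
    (hrr : ¬ r * r ∣ 4089470473293004800) : ¬ May r Fi23 := by
  have hfin := finite_fi23
  have hsim : IsSimpleGroup Fi23 := Cfsg.Agent.S1697.result.1
  have : Fact r.Prime := ⟨hr⟩
  obtain ⟨m, hm⟩ := exists_prime_orderOf_dvd_card' (G := M23) r (by
    rw [SporadicA.MathieuRecog.card_M23]; exact hd)
  obtain ⟨n, hn⟩ := pre.full m m.2
  refine not_may_of_perm hr hr2 Nat.prime_two hr2.symm hgood e pre.comm (fun i => by rw [sq]; exact pre.sq i)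
    (n := n) (m := (m : Equiv.Perm GolayPt)) (by rw [Subgroup.orderOf_coe, hm]) hn (by rw [card_Fi23]; exact hrr) ?_
  intro k hk
  ext1 p
  exact pre.inj (hk p)

/-! ### Fi22 -/

open Cfsg.Agent.R08.FiTwentyThree (pi pi_surjective pi_ker perfect mem_K_iff zK zK_ne)
open Cfsg.Agent.Fischer.Fi23Class (K)
open Cfsg.Agent.Fischer.Fi23Z (z0)

theorem e_mem_K (p : GolayPt) : e p ∈ K := by
  rw [mem_K_iff, ← e_z]
  exact pre.comm _ _

/-- the images in `Fi22` -/
noncomputable def e22 (p : GolayPt) : Fi22 := pi ⟨e p, e_mem_K p⟩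

theorem e22_eq {p q : GolayPt} (h : e22 p = e22 q) : e p = e q ∨ e p = z0 * e q := by
  have h1 : pi (⟨e p, e_mem_K p⟩ * (⟨e q, e_mem_K q⟩)⁻¹) = 1 := by
    rw [map_mul, map_inv, mul_inv_eq_one]
    exact h
  rcases (pi_ker _).1 h1 with h2 | h2
  · left
    have h3 := congrArg Subtype.val (mul_inv_eq_one.1 h2)
    exact h3
  · right
    have h3 := congrArg Subtype.val (mul_inv_eq_iff_eq_mul.1 h2)
    exact h3

theorem prod_ne {p q : GolayPt} (hp : p ≠ none) (hq : q ≠ none) (hpq : p ≠ q) (hp1 : p ≠ some 13)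
    (hq1 : q ≠ some 13) : e p ≠ z0 * e q := by
  intro h
  have h1 : pr e {p, q, some 13} = 1 := by
    rw [pre.pr_insert (by simp [hpq, hp1]), pre.pr_pair hq1, h, e_z]
    have h2 : e q * z0 = z0 * e q := by rw [← e_z]; exact pre.comm _ _
    calc z0 * e q * (e q * z0) = z0 * (e q * e q) * z0 := by group
      _ = z0 * z0 := by rw [pre.sq, mul_one]
      _ = 1 := by rw [← e_z]; exact pre.sq _
  refine pre.pr_ne_one (T := {p, q, some 13}) ?_ ⟨p, by simp⟩ ?_ h1
  · simp [hp.symm, hq.symm]
  · exact (Finset.card_le_three).trans (by norm_num)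

theorem fi22_perm {r : ℕ} (hr : r.Prime) (hr2 : r ≠ 2) (hgood : Good 2 r) (hd : r ∣ 443520)
    (hrr : ¬ r * r ∣ 64561751654400) : ¬ May r Fi22 := by
  have hsim : IsSimpleGroup Fi22 := Cfsg.Agent.S1696.result.1
  have hcard : Nat.card Fi22 = 64561751654400 := Cfsg.Agent.S1696.result.2
  have hfin : Finite Fi22 := Nat.finite_of_card_ne_zero (by rw [hcard]; norm_num)
  have : Fact r.Prime := ⟨hr⟩
  obtain ⟨m0, hm0⟩ := exists_prime_orderOf_dvd_card' (G := M22) r (by
    rw [SporadicA.MathieuRecog.card_M22]; exact hd)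
  have hm1 := m0.2
  unfold Cfsg.Spor.M22 at hm1
  obtain ⟨hm2, hm3⟩ := Subgroup.mem_inf.1 hm1
  rw [MulAction.mem_stabilizer_iff] at hm3
  have hm3' : (m0 : Equiv.Perm GolayPt) (some 0) = some 0 := hm3
  obtain ⟨hm4, hm5⟩ := mem_M23.1 hm2
  obtain ⟨g, hg1, hg2⟩ := Cfsg.Agent.KFacts.FiTTh.BasCode.exists_map_pair (i := none) (j := some 0) (k := none)
    (l := some 13) (by simp) (by simp)
  set! m : Equiv.Perm GolayPt := g * m0 * (g : Equiv.Perm GolayPt)⁻¹ with hm
  have hmn : m none = none := by
    have : (g : Equiv.Perm GolayPt)⁻¹ none = none := by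
      rw [Equiv.Perm.inv_eq_iff_eq]; exact hg1.symm
    rw [hm, Equiv.Perm.mul_apply, Equiv.Perm.mul_apply, this, hm5, hg1]
  have hmz : m (some 13) = some 13 := by
    have : (g : Equiv.Perm GolayPt)⁻¹ (some 13) = some 0 := by
      rw [Equiv.Perm.inv_eq_iff_eq]; exact hg2.symm
    rw [hm, Equiv.Perm.mul_apply, Equiv.Perm.mul_apply, this, hm3', hg2]
  have hmM : m ∈ M23 := mem_M23.2 ⟨mul_mem (mul_mem g.2 hm4) (inv_mem g.2), hmn⟩
  have hmo : orderOf m = r := by
    rw [← hm0, ← Subgroup.orderOf_coe]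
    exact (orderOf_injective (MulAut.conj (g : Equiv.Perm GolayPt)).toMonoidHom
      (MulAut.conj (g : Equiv.Perm GolayPt)).injective (m0 : Equiv.Perm GolayPt))
  obtain ⟨n, hn⟩ := pre.full m hmM
  have hnK : n ∈ K := by
    rw [mem_K_iff, ← e_z]
    have h1 := hn (some 13)
    rw [hmz] at h1
    exact mul_inv_eq_iff_eq_mul.1 h1
  have hfix : ∀ (k : ℕ) (p : GolayPt), m p = p → (m ^ k) p = p := by
    intro k p hp
    induction k with
    | zero => rfl
    | succ k ih => rw [pow_succ, Equiv.Perm.mul_apply, hp, ih]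
  refine not_may_of_perm hr hr2 Nat.prime_two hr2.symm hgood e22 ?_ ?_
    (n := pi ⟨n, hnK⟩) (m := m) hmo ?_ (by rw [hcard]; exact hrr) ?_
  · intro i j
    unfold e22
    rw [← map_mul, ← map_mul]
    congr 1
    exact Subtype.ext (pre.comm i j)
  · intro i
    unfold e22
    rw [sq, ← map_mul, ← map_one pi]
    congr 1
    exact Subtype.ext (pre.sq i)
  · intro p
    unfold e22
    rw [← map_inv, ← map_mul, ← map_mul]
    congr 1
    exact Subtype.ext (hn p)
  · intro k hk
    ext1 p
    show (m ^ k) p = p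
    have h1 := e22_eq (hk p)
    by_contra hne
    have hpn : p ≠ none := fun h => hne (by rw [h]; exact hfix k _ hmn)
    have hpz : p ≠ some 13 := fun h => hne (by rw [h]; exact hfix k _ hmz)
    have hqn : (m ^ k) p ≠ none := fun h => hpn ((m ^ k).injective (by rw [h, hfix k _ hmn]))
    have hqz : (m ^ k) p ≠ some 13 := fun h => hpz ((m ^ k).injective (by rw [h, hfix k _ hmz]))
    rcases h1 with h1 | h1
    · exact hne (pre.inj h1)
    · exact prod_ne hqn hpn hne hqz hpz h1

/-- going down from `Fi23` to `Fi22` -/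
theorem fi23_of_fi22 {r : ℕ} (h : ¬ May r Fi22) : ¬ May r Fi23 := by
  intro hM
  refine h (hM.of_hom K.subtype pi pi_surjective ?_ ?_ perfect)
  · intro z hz
    rw [mem_center_iff]
    intro g
    rcases (pi_ker z).1 hz with rfl | rfl
    · rw [one_mul, mul_one]
    · exact (R08.FiTwentyThree.central g).symm
  · rw [(MonoidHom.ker_eq_bot_iff K.subtype).2 K.subtype_injective]
    exact bot_le

theorem fi22_5 : ¬ May 5 Fi22 := by
  have hcard : Nat.card Fi22 = 64561751654400 := Cfsg.Agent.S1696.result.2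
  have hfin : Finite Fi22 := Nat.finite_of_card_ne_zero (by rw [hcard]; norm_num)
  have h5 : Fact (Nat.Prime 5) := ⟨Nat.prime_five⟩
  have C := Cfsg.Agent.LThreeFi22.Inst.ctx (MulEquiv.refl Fi22)
  obtain ⟨u, hu⟩ := exists_prime_orderOf_dvd_card' 5 (G := Fi22) (by rw [hcard]; norm_num)
  exact not_may_of_refl (by norm_num) (by norm_num) hu (H800.Sp.FiTT.refl C (by rw [← hu, pow_orderOf_eq_one]) (by
    rintro rfl
    rw [orderOf_one] at hu
    omega))

theorem fi22_7 : ¬ May 7 Fi22 :=
  fi22_perm (by norm_num) (by norm_num) (good_two_of_dvd (q := 3) Nat.prime_three (by norm_num) (by norm_num))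
    (by norm_num) (by norm_num)

theorem fi22_11 : ¬ May 11 Fi22 :=
  fi22_perm (by norm_num) (by norm_num) (good_two_of_dvd (q := 5) Nat.prime_five (by norm_num) (by norm_num))
    (by norm_num) (by norm_num)

theorem fi23_23 : ¬ May 23 Fi23 :=
  fi23_perm (by norm_num) (by norm_num) (good_two_of_dvd (q := 11) (by norm_num) (by norm_num) (by norm_num))
    (by norm_num) (by norm_num)

theorem row_fi22 {H : Type*} [Group H] [Finite H] (h : Spor.IsoFi22 H) : Row H :=
  row_by (NotCT.Orders.fi22 h) 11 13 [2, 3, 5, 7, 11, 13] [3, 5, 7] (by decide +kernel) 17 (by decide +kernel)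
    (by decide) (by decide)
    (by
      intro r hr
      simp only [List.mem_cons, List.not_mem_nil, or_false] at hr
      rcases hr with rfl | rfl | rfl
      · exact not_may_of_notAb (by norm_num) (by norm_num) (H800.Sp.NotAbRows.fi22_3 h)
      · obtain ⟨e⟩ := h
        exact fun hM => fi22_5 (hM.of_equiv e)
      · obtain ⟨e⟩ := h
        exact fun hM => fi22_7 (hM.of_equiv e))

theorem row_fi23 {H : Type*} [Group H] [Finite H] (h : Spor.IsoFi23 H) : Row H :=
  row_by (NotCT.Orders.fi23 h) 13 17 [2, 3, 5, 7, 11, 13, 17, 23] [3, 5, 7, 11, 23] (by decide +kernel) 18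
    (by decide +kernel) (by decide) (by decide)
    (by
      intro r hr
      simp only [List.mem_cons, List.not_mem_nil, or_false] at hr
      rcases hr with rfl | rfl | rfl | rfl | rfl
      · exact not_may_of_notAb (by norm_num) (by norm_num) (H800.Sp.NotAbRows.fi23_3 h)
      · obtain ⟨e⟩ := h
        exact fun hM => fi23_of_fi22 fi22_5 (hM.of_equiv e)
      · obtain ⟨e⟩ := h
        exact fun hM => fi23_of_fi22 fi22_7 (hM.of_equiv e)
      · obtain ⟨e⟩ := h
        exact fun hM => fi23_of_fi22 fi22_11 (hM.of_equiv e)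
      · obtain ⟨e⟩ := h
        exact fun hM => fi23_23 (hM.of_equiv e))

end Fi23

end Cfsg.Agent.H844.Fpf
end

-- part: H844/Fpf/RowFiFour
section
/-!
# Sporadic rows of S4228: `Fi24'` (helper844)

`13` is excluded in `Ω₇(3)` (an element of order 13 of `SL₃(3)` acts on `3^3`), so in `Fi22`, `Fi23` and `Fi24'`.
-/

set_option autoImplicit false

namespace Cfsg.Agent.H844.Fpf.OSeven

open Cfsg Cfsg.Agent Cfsg.Agent.H80.Fpf Cfsg.Agent.H844.Fpf Cfsg.Agent.H912.Bd Matrix

/-- the element of order 13 -/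
def A : _root_.Matrix.SpecialLinearGroup (Fin 3) (ZMod 3) := ⟨!![0, 0, 1; 1, 0, 1; 0, 1, 0], by decide +kernel⟩
/-- its square -/
def A2 : _root_.Matrix.SpecialLinearGroup (Fin 3) (ZMod 3) := ⟨!![0, 1, 0; 0, 1, 1; 1, 0, 1], by decide +kernel⟩
/-- its fourth power -/
def A4 : _root_.Matrix.SpecialLinearGroup (Fin 3) (ZMod 3) := ⟨!![0, 1, 1; 1, 1, 2; 1, 1, 1], by decide +kernel⟩
/-- its eighth power -/
def A8 : _root_.Matrix.SpecialLinearGroup (Fin 3) (ZMod 3) := ⟨!![2, 2, 0; 0, 1, 2; 2, 0, 1], by decide +kernel⟩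

theorem hA2 : A * A = A2 := Subtype.ext (by
  show A.1 * A.1 = A2.1
  decide +kernel)
theorem hA4 : A2 * A2 = A4 := Subtype.ext (by
  show A2.1 * A2.1 = A4.1
  decide +kernel)
theorem hA8 : A4 * A4 = A8 := Subtype.ext (by
  show A4.1 * A4.1 = A8.1
  decide +kernel)
theorem hA13 : A8 * A4 * A = 1 := Subtype.ext (by
  show A8.1 * A4.1 * A.1 = 1
  decide +kernel)

theorem A_pow : A ^ 13 = 1 := by
  rw [← hA13, ← hA8, ← hA4, ← hA2]
  simp only [pow_succ, pow_zero, one_mul, mul_assoc]

/-- the group -/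
abbrev S : Type := POmega (ZMod 3) (quadFormOdd 3 (ZMod 3))

theorem simple : IsSimpleGroup S := Cfsg.Agent.S0295.result (by rw [ZMod.card]; decide) 3 le_rfl

/-- the vector -/
def v0 : Fin 3 → ZMod 3 := ![1, 0, 0]

theorem adj_ne : (A.1.adjugate)ᵀ *ᵥ v0 ≠ v0 := by decide +kernel

variable (f : Omega (ZMod 3) (quadFormPlus 3 (ZMod 3)) →* S) (hf : f.ker ≤ Subgroup.center _)

include hf in
theorem eq_one_of {v : Multiplicative (Fin 3 → ZMod 3)} (h : f (uO v) = 1) : v = 1 := by
  have h1 := Subgroup.mem_center_iff.1 (hf h)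
  by_contra hv
  have hv' : Multiplicative.toAdd v ≠ 0 := fun h2 => hv (Multiplicative.toAdd.injective h2)
  obtain ⟨B, hB⟩ := exists_adj hv' (neg_ne_zero.2 hv')
  have h2 := conj_uO B v
  rw [hB, h1, mul_inv_cancel_right] at h2
  have h3 : Multiplicative.toAdd v = -Multiplicative.toAdd v := congrArg Multiplicative.toAdd (uO_injective h2)
  apply hv'
  funext i
  have h4 := congrFun h3 i
  rw [Pi.neg_apply] at h4
  have h5 : ∀ a : ZMod 3, a = -a → a = 0 := by decide
  exact h5 _ h4

/-- the element of order 13 -/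
noncomputable def x : S := f (slO le_rfl A)

/-- the element of order 3 -/
noncomputable def k : S := f (uO (Multiplicative.ofAdd v0))

seal _root_.Finset.sum _root_.dotProduct in
theorem conj (v : Multiplicative (Fin 3 → ZMod 3)) : x f * f (uO v) * (x f)⁻¹ =
    f (uO (Multiplicative.ofAdd (((A.1).adjugate)ᵀ *ᵥ (Multiplicative.toAdd v)))) := by
  rw [← conj_uO, map_mul, map_mul, map_inv]
  rfl

include hf in
seal _root_.Finset.sum _root_.dotProduct in
theorem ne : x f * k f ≠ k f * x f := by
  intro h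
  have h1 := conj f (Multiplicative.ofAdd v0)
  rw [show f (uO (Multiplicative.ofAdd v0)) = k f from rfl, h, mul_inv_cancel_right] at h1
  have h2 : f (uO (Multiplicative.ofAdd v0 * (Multiplicative.ofAdd (((A.1).adjugate)ᵀ *ᵥ v0))⁻¹)) = 1 := by
    rw [map_mul, map_inv, map_mul, map_inv, mul_inv_eq_one]
    exact h1
  have h3 := mul_inv_eq_one.1 (eq_one_of f hf h2)
  exact adj_ne (Multiplicative.ofAdd.injective h3).symm

include hf in
seal _root_.Finset.sum _root_.dotProduct in
theorem not_may_aux : ¬ May 13 S := by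
  have hs := simple
  have h13 : Fact (Nat.Prime 13) := ⟨by norm_num⟩
  refine not_may_of_act (l := 3) (by norm_num) (by norm_num) Nat.prime_three (by norm_num)
    (good_of_odd Nat.prime_three (by norm_num) (by norm_num) (by norm_num)) (K := (f.comp uO).range) ?_
    (x := x f) (orderOf_eq_prime ?_ ?_) ?_ (k := k f) ⟨_, rfl⟩ (ne f hf)
  · intro y
    refine ⟨1, ?_⟩
    obtain ⟨v, hv⟩ := y.2
    apply Subtype.ext
    show (y : S) ^ 3 ^ 1 = 1
    rw [← hv, ← map_pow]
    have h1 : v ^ 3 ^ 1 = 1 := by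
      show Multiplicative.ofAdd ((3 ^ 1) • Multiplicative.toAdd v) = Multiplicative.ofAdd 0
      congr 1
      funext i
      have h5 : ∀ a : ZMod 3, (3 ^ 1) • a = 0 := by decide
      exact h5 _
    rw [h1, map_one]
  · unfold x
    rw [← map_pow, ← map_pow, A_pow, map_one, map_one]
  · intro h
    apply ne f hf
    rw [h, one_mul, mul_one]
  · rintro _ ⟨v, rfl⟩
    exact ⟨_, (conj f v).symm⟩

theorem not_may : ¬ May 13 S := by
  obtain ⟨f, hf⟩ := exists_odd (K := ZMod 3) (m := 3) (n := 3) le_rfl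
  exact not_may_aux f hf

theorem perfect : commutator S = ⊤ := by
  have hs := simple
  obtain ⟨f, hf⟩ := exists_odd (K := ZMod 3) (m := 3) (n := 3) le_rfl
  exact perfect_of_simple (ne f hf)

end Cfsg.Agent.H844.Fpf.OSeven

namespace Cfsg.Agent.H844.Fpf

open Cfsg Cfsg.Agent Cfsg.Agent.H80.Fpf
open Cfsg.Spor (Fi22 Fi23)
open scoped commutatorElement

theorem fi22_13 : ¬ May 13 Fi22 := by
  obtain ⟨g⟩ := Cfsg.Agent.S1686.result
  exact not_may_of_inj ((Subgroup.subtype _).comp g.symm.toMonoidHom)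
    ((Subgroup.subtype_injective _).comp g.symm.injective) OSeven.perfect OSeven.not_may

theorem fi23_perfect : commutator Fi23 = ⊤ := by
  have hs : IsSimpleGroup Fi23 := Cfsg.Agent.S1697.result.1
  rcases (inferInstance : (commutator Fi23).Normal).eq_bot_or_eq_top with h | h
  · exfalso
    have hc : Nat.card Fi23 = 4089470473293004800 := Cfsg.Agent.S1697.result.2
    have hfin : Finite Fi23 := finite_fi23
    have hcomm : ∀ a b : Fi23, a * b = b * a := by
      intro a b
      have h1 : ⁅a, b⁆ ∈ commutator Fi23 := Subgroup.commutator_mem_commutator (Subgroup.mem_top _) (Subgroup.mem_top _)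
      rw [h, Subgroup.mem_bot, commutatorElement_eq_one_iff_mul_comm] at h1
      exact h1
    let _ : CommGroup Fi23 := { (inferInstance : Group Fi23) with mul_comm := hcomm }
    have hp := IsSimpleGroup.prime_card (α := Fi23)
    rw [hc] at hp
    revert hp
    norm_num
  · exact h

theorem fi24_of_fi23 {r : ℕ} (h : ¬ May r Fi23) : ¬ May r Spor.Fi24' := by
  have hm : ∀ x : Fi23, R08.FiTwentyFour.facts.phi x ∈ commutator Spor.Fi24 := fun x => by
    rw [R08.FiTwentyFour.mem_commutator_iff]
    exact R08.FiTwentyFour.facts.sgn_phi x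
  exact not_may_of_inj (H := Fi23) (S := Spor.Fi24') (R08.FiTwentyFour.facts.phi.codRestrict _ hm)
    (fun x y h => R08.FiTwentyFour.facts.phi_injective (congrArg Subtype.val h)) fi23_perfect h

theorem row_fi24 {H : Type*} [Group H] [Finite H] (h : Spor.IsoFi24' H) : Row H :=
  row_by (NotCT.Orders.fi24 h) 17 29 [2, 3, 5, 7, 11, 13, 17, 23, 29] [3, 5, 7, 11, 13, 23] (by decide +kernel) 21
    (by decide +kernel) (by decide) (by decide)
    (by
      intro r hr
      simp only [List.mem_cons, List.not_mem_nil, or_false] at hr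
      rcases hr with rfl | rfl | rfl | rfl | rfl | rfl
      · exact not_may_of_notAb (by norm_num) (by norm_num) (H800.Sp.NotAbRows.fi24_3 h)
      · obtain ⟨e⟩ := h
        exact fun hM => fi24_of_fi23 (fi23_of_fi22 fi22_5) (hM.of_equiv e)
      · exact not_may_of_notAb (by norm_num) (by norm_num) (H800.Sp.NotAbRows.fi24_7 h)
      · obtain ⟨e⟩ := h
        exact fun hM => fi24_of_fi23 (fi23_of_fi22 fi22_11) (hM.of_equiv e)
      · obtain ⟨e⟩ := h
        exact fun hM => fi24_of_fi23 (fi23_of_fi22 fi22_13) (hM.of_equiv e)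
      · obtain ⟨e⟩ := h
        exact fun hM => fi24_of_fi23 fi23_23 (hM.of_equiv e))

end Cfsg.Agent.H844.Fpf
end
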